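import Groth.Agent.An.H520.SlicePB
import Groth.Agent.An.H880.CoreDef
import Groth.Agent.An.H869.LocalRoots
import Groth.Agent.An.H869.Growth
import Groth.Agent.An.H885.FamOne

/-!
# Slices of a finite covering of the complement of a hypersurface (`S4207` FAM: P5)

`exists_slice`: for a finite covering `p : E → {q ≠ 0} ⊆ ℂ^(n+1)` and `Core n` there are `z₀` and
`q₁` such that the restriction to `{z₀} × {q₁ ≠ 0}` is the space of roots of a monic polynomial `g`, by
a function `s`, and for each `b` with `q₁(b) ≠ 0` the restriction to the line over `b` has a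
function, integral over `ℂ[z]`, extending `s`.
-/

set_option autoImplicit false

namespace Groth.Agent.An.H520.Slice

open MvPolynomial Topology Set Groth.Agent.An.H880.Fam Groth.Agent.An.H880.CoreDef
open Groth.Agent.An.H869.LocalRoots Groth.Agent.An.H520.SlicePB

theorem cons_injective_left {n : ℕ} (z₀ : ℂ) :
    Function.Injective (fun b : Fin n → ℂ => (Fin.cons z₀ b : Fin (n + 1) → ℂ)) := by
  intro b b' h
  have := congrArg Fin.tail h
  simpa using this

theorem cons_injective_right {n : ℕ} (b : Fin n → ℂ) :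
    Function.Injective (fun z : ℂ => (Fin.cons z b : Fin (n + 1) → ℂ)) := by
  intro z z' h
  have := congrFun h 0
  simpa using this

theorem continuous_cons_left {n : ℕ} (z₀ : ℂ) :
    Continuous (fun b : Fin n → ℂ => (Fin.cons z₀ b : Fin (n + 1) → ℂ)) := by
  refine continuous_pi fun i => ?_
  refine Fin.cases ?_ (fun j => ?_) i
  · simpa using continuous_const
  · simpa using continuous_apply j

theorem continuous_cons_right {n : ℕ} (b : Fin n → ℂ) :
    Continuous (fun z : ℂ => (Fin.cons z b : Fin (n + 1) → ℂ)) := by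
  refine continuous_pi fun i => ?_
  refine Fin.cases ?_ (fun j => ?_) i
  · simpa using continuous_id'
  · simpa using continuous_const

theorem continuous_tail {n : ℕ} :
    Continuous (fun x : Fin (n + 1) → ℂ => (Fin.tail x : Fin n → ℂ)) :=
  continuous_pi fun i => continuous_apply i.succ

/-- existence of good parameters over one line -/
theorem exists_good {n : ℕ} (q : MvPolynomial (Fin (n + 1)) ℂ)
    (E : Type) [TopologicalSpace E] (p : E → (Fin (n + 1) → ℂ))
    (hcov : IsCoveringMapOn p {x | eval x q ≠ 0}) (hpc : Continuous p) (hpq : ∀ e, eval (p e) q ≠ 0)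
    (hfin : ∀ x, (p ⁻¹' {x}).Finite) (z₀ : ℂ) (s : E → ℂ) (b : Fin n → ℂ)
    (hz₀ : eval (Fin.cons z₀ b : Fin (n + 1) → ℂ) q ≠ 0) :
    ∃ (N : ℕ) (c : Fin ((hfin (Fin.cons z₀ b)).toFinset.card * (N + 1)) → ℂ),
      Good p z₀ s (hfin (Fin.cons z₀ b)).toFinset.card N b c := by
  classical
  let P : Polynomial ℂ := (finSuccEquiv ℂ n q).map (eval b)
  have hP : ∀ w : ℂ, P.eval w = eval (Fin.cons w b : Fin (n + 1) → ℂ) q := fun w =>
    (eval_eq_eval_mv_eval' b w q).symm
  have hP0 : P ≠ 0 := by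
    intro h
    apply hz₀
    rw [← hP, h, Polynomial.eval_zero]
  let S : Finset ℂ := P.roots.toFinset
  have hS : ∀ z, z ∉ S ↔ eval (Fin.cons z b : Fin (n + 1) → ℂ) q ≠ 0 := by
    intro z
    rw [← hP]
    simp [S, hP0]
  let g : ℂ → (Fin (n + 1) → ℂ) := fun z => Fin.cons z b
  have hginj : Function.Injective g := cons_injective_right b
  have hg : Continuous g := continuous_cons_right b
  have hfc : Groth.Agent.An.H579.RetCov.FinCov (S : Set ℂ) (pr p ((S : Set ℂ)ᶜ) g) :=
    { closed := S.finite_toSet.isClosed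
      cov := isCoveringMapOn_pr hcov S.finite_toSet.isClosed.isOpen_compl hg
        (fun z hz => (hS z).1 (by simpa using hz))
      notMem := fun w => pr_mem w
      fin := finite_fibre hginj hfin }
  have hz₀S : z₀ ∉ S := (hS z₀).2 hz₀
  obtain ⟨f, F, hf, hFc, hFv, hfF⟩ := Groth.Agent.An.H885.FamOne.exists_alg_one S _ hfc z₀ hz₀S
    (fun w => s w.1.2)
  have hdeg : f.natDegree = (hfin (Fin.cons z₀ b)).toFinset.card := by
    have h1 : (f.map (Polynomial.evalRingHom z₀)).natDegree = f.natDegree := hf.natDegree_map _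
    rw [← h1, hfF z₀ hz₀S, Polynomial.natDegree_prod_of_monic _ _ (fun w _ => Polynomial.monic_X_sub_C _)]
    simp only [Polynomial.natDegree_X_sub_C, Finset.sum_const, smul_eq_mul, mul_one]
    exact card_fibre hginj z₀ (by simpa using hz₀S) _ _
  let N : ℕ := f.support.sup fun i => (f.coeff i).natDegree
  have hN : ∀ i, (f.coeff i).natDegree ≤ N := by
    intro i
    by_cases hi : i ∈ f.support
    · exact Finset.le_sup (f := fun i => (f.coeff i).natDegree) hi
    · rw [Polynomial.notMem_support_iff.1 hi, Polynomial.natDegree_zero]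
      exact Nat.zero_le _
  obtain ⟨c, hc⟩ := exists_fam f hf hdeg hN
  refine ⟨N, c, ext F, ?_, ?_, ?_⟩
  · refine continuousOn_ext (r := fun x => x 0) hpc hginj (continuous_apply 0) (fun x => by simp [g]) F univ
      hFc.continuousOn _ ?_
    intro e he
    have he' : Fin.tail (p e) = b := he
    have hpe : g (p e 0) = p e := by
      change (Fin.cons (p e 0) b : Fin (n + 1) → ℂ) = p e
      rw [← he', Fin.cons_self_tail]
    refine ⟨p e 0, ?_, mem_univ _, hpe⟩
    have : eval (Fin.cons (p e 0) b : Fin (n + 1) → ℂ) q ≠ 0 := by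
      change eval (g (p e 0)) q ≠ 0
      rw [hpe]
      exact hpq e
    simpa using (hS _).2 this
  · intro e he
    have hpe : g (p e 0) = p e := by
      change (Fin.cons (p e 0) b : Fin (n + 1) → ℂ) = p e
      rw [← he, Fin.cons_self_tail]
    have hmem : p e 0 ∉ S := by
      refine (hS _).2 ?_
      change eval (g (p e 0)) q ≠ 0
      rw [hpe]
      exact hpq e
    let w : PB p ((S : Set ℂ)ᶜ) g := ⟨(⟨p e 0, by simpa using hmem⟩, e), hpe.symm⟩
    have hw : ext F e = F w := ext_apply hginj F w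
    rw [hc, hfF _ hmem, hw, Polynomial.eval_prod]
    refine Finset.prod_eq_zero (i := w) ?_ (by simp)
    rw [Set.Finite.mem_toFinset]
    rfl
  · intro e he he0
    have hpe : g (p e 0) = p e := by
      change (Fin.cons (p e 0) b : Fin (n + 1) → ℂ) = p e
      rw [← he, Fin.cons_self_tail]
    have hmem : p e 0 ∉ S := by
      refine (hS _).2 ?_
      change eval (g (p e 0)) q ≠ 0
      rw [hpe]
      exact hpq e
    let w : PB p ((S : Set ℂ)ᶜ) g := ⟨(⟨p e 0, by simpa using hmem⟩, e), hpe.symm⟩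
    have hw : ext F e = F w := ext_apply hginj F w
    rw [hw]
    exact hFv w he0

theorem exists_slice (n : ℕ) (hn : Core n) (q : MvPolynomial (Fin (n + 1)) ℂ) (hq : q ≠ 0)
    (E : Type) [TopologicalSpace E] (p : E → (Fin (n + 1) → ℂ))
    (hcov : IsCoveringMapOn p {x | eval x q ≠ 0}) (hpq : ∀ e, eval (p e) q ≠ 0)
    (hfin : ∀ x, (p ⁻¹' {x}).Finite) :
    ∃ (z₀ : ℂ) (q₁ : MvPolynomial (Fin n) ℂ) (g : Polynomial (MvPolynomial (Fin n) ℂ))
      (s : E → ℂ), q₁ ≠ 0 ∧ g.Monic ∧
      (∀ b, eval b q₁ ≠ 0 → eval (Fin.cons z₀ b : Fin (n + 1) → ℂ) q ≠ 0) ∧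
      ContinuousOn s {e | p e 0 = z₀ ∧ eval (Fin.tail (p e)) q₁ ≠ 0} ∧
      (∀ b, eval b q₁ ≠ 0 → (g.map (eval b)).Separable ∧ g.map (eval b) =
        ∏ e ∈ (hfin (Fin.cons z₀ b)).toFinset, (Polynomial.X - Polynomial.C (s e))) ∧
      ∀ b, eval b q₁ ≠ 0 → ∃ (N : ℕ) (c : Fin (g.natDegree * (N + 1)) → ℂ),
        Good p z₀ s g.natDegree N b c := by
  classical
  have hpc : Continuous p := by
    rw [← continuousOn_univ]
    refine hcov.continuousOn.mono ?_
    intro e _
    exact hpq e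
  obtain ⟨T, hT1, hT2⟩ := Groth.Agent.An.H869.Growth.exists_nodes q hq 0
  obtain ⟨z₀, hz₀⟩ : T.Nonempty := Finset.card_pos.1 (by omega)
  let q₀ : MvPolynomial (Fin n) ℂ := Polynomial.eval (C z₀) (finSuccEquiv ℂ n q)
  have hq₀ : q₀ ≠ 0 := hT2 z₀ hz₀
  have hq₀e : ∀ b, eval b q₀ = eval (Fin.cons z₀ b : Fin (n + 1) → ℂ) q := fun b =>
    (Groth.Agent.An.H869.Growth.eval_cons_eq q z₀ b).symm
  let γ : (Fin n → ℂ) → (Fin (n + 1) → ℂ) := fun b => Fin.cons z₀ b
  have hγinj : Function.Injective γ := cons_injective_left z₀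
  have hγ : Continuous γ := continuous_cons_left z₀
  let t : Set (Fin n → ℂ) := {b | eval b q₀ ≠ 0}
  have ht : IsOpen t := Groth.Agent.An.H869.Growth.isOpen_ne_zero q₀
  have hcov0 : IsCoveringMapOn (pr p t γ) t :=
    isCoveringMapOn_pr hcov ht hγ (fun b hb => by
      change eval (Fin.cons z₀ b : Fin (n + 1) → ℂ) q ≠ 0
      rw [← hq₀e]
      exact hb)
  obtain ⟨q₁, g, F₀, hq₁, hdvd, hg, hF₀, hgF⟩ := hn q₀ hq₀ (PB p t γ) (pr p t γ) hcov0
    (fun w => pr_mem w) (finite_fibre hγinj hfin)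
  have hq₁q₀ : ∀ b, eval b q₁ ≠ 0 → eval b q₀ ≠ 0 := by
    intro b hb h0
    obtain ⟨r, hr⟩ := hdvd
    apply hb
    rw [hr, map_mul, h0, zero_mul]
  have hprod : ∀ b, eval b q₁ ≠ 0 → g.map (eval b) =
      ∏ e ∈ (hfin (Fin.cons z₀ b)).toFinset, (Polynomial.X - Polynomial.C (ext F₀ e)) := by
    intro b hb
    rw [(hgF b hb).2]
    have h1 := prod_fibre (p := p) (t := t) hγinj b (hq₁q₀ b hb)
      (fun e => (Polynomial.X - Polynomial.C (ext F₀ e) : Polynomial ℂ))
      (finite_fibre hγinj hfin b) (hfin (γ b))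
    rw [← h1]
    refine Finset.prod_congr rfl fun w _ => ?_
    rw [ext_apply hγinj F₀ w]
  have hcard : ∀ b, eval b q₁ ≠ 0 → (hfin (Fin.cons z₀ b)).toFinset.card = g.natDegree := by
    intro b hb
    rw [← hg.natDegree_map (eval b), hprod b hb,
      Polynomial.natDegree_prod_of_monic _ _ (fun w _ => Polynomial.monic_X_sub_C _)]
    simp
  refine ⟨z₀, q₁, g, ext F₀, hq₁, hg, fun b hb => ?_, ?_, fun b hb => ⟨(hgF b hb).1, hprod b hb⟩,
    fun b hb => ?_⟩
  · rw [← hq₀e]
    exact hq₁q₀ b hb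
  · refine continuousOn_ext (r := fun x => Fin.tail x) hpc hγinj continuous_tail
      (fun b => by simp [γ]) F₀ {b | eval b q₁ ≠ 0} hF₀ _ ?_
    rintro e ⟨he0, he⟩
    refine ⟨Fin.tail (p e), hq₁q₀ _ he, he, ?_⟩
    change (Fin.cons z₀ (Fin.tail (p e)) : Fin (n + 1) → ℂ) = p e
    rw [← he0, Fin.cons_self_tail]
  · have h1 := exists_good q E p hcov hpc hpq hfin z₀ (ext F₀) b
      (by rw [← hq₀e]; exact hq₁q₀ b hb)
    rw [hcard b hb] at h1
    exact h1

end Groth.Agent.An.H520.Slice
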