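import Groth.Agent.An.H880.Pull
import Mathlib.Analysis.Complex.Basic

/-!
# Restriction of a covering along a map: functions on the fibre product as functions on the covering
-/

set_option autoImplicit false

namespace Groth.Agent.An.H520.SlicePB

open Topology Set

variable {E X Y : Type*} [TopologicalSpace E] [TopologicalSpace X] [TopologicalSpace Y]
variable {p : E → Y} {t : Set X} {g : X → Y}

/-- the fibre product of `p : E → Y` and `g|_t : t → Y` -/
abbrev PB (p : E → Y) (t : Set X) (g : X → Y) := {w : t × E // p w.2 = g w.1}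

/-- the projection of the fibre product to `X` -/
abbrev pr (p : E → Y) (t : Set X) (g : X → Y) (w : PB p t g) : X := w.1.1

theorem isCoveringMapOn_pr {s : Set Y} (hp : IsCoveringMapOn p s) (ht : IsOpen t) (hg : Continuous g)
    (hgs : ∀ x ∈ t, g x ∈ s) : IsCoveringMapOn (pr p t g) t :=
  IsCoveringMapOn.of_isCoveringMap_subtype ht (fun w => w.1.1.2)
    (Groth.Agent.An.H880.Pull.isCoveringMap_pullback hp (hg.comp continuous_subtype_val)
      (fun x => hgs x x.2))

omit [TopologicalSpace E] [TopologicalSpace X] [TopologicalSpace Y] in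
theorem pr_mem (w : PB p t g) : pr p t g w ∈ t := w.1.1.2

omit [TopologicalSpace E] [TopologicalSpace X] [TopologicalSpace Y] in
theorem eq_of_snd (hg : Function.Injective g) {w w' : PB p t g} (h : w.1.2 = w'.1.2) : w = w' := by
  apply Subtype.ext
  refine Prod.ext (Subtype.ext (hg ?_)) h
  rw [← w.2, ← w'.2, h]

omit [TopologicalSpace E] [TopologicalSpace X] [TopologicalSpace Y] in
theorem finite_fibre (hg : Function.Injective g) (hfin : ∀ y, (p ⁻¹' {y}).Finite) (x : X) :
    ((pr p t g) ⁻¹' {x}).Finite := by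
  refine Set.Finite.of_finite_image (f := fun w : PB p t g => w.1.2) ((hfin (g x)).subset ?_)
    (fun w _ w' _ h => eq_of_snd hg h)
  rintro _ ⟨w, hw, rfl⟩
  have h1 : (w.1.1 : X) = x := hw
  have h2 := w.2
  rw [h1] at h2
  exact h2

omit [TopologicalSpace E] [TopologicalSpace X] [TopologicalSpace Y] in
theorem prod_fibre {M : Type*} [CommMonoid M] (hg : Function.Injective g) (x : X) (hx : x ∈ t)
    (φ : E → M) (h1 : ((pr p t g) ⁻¹' {x}).Finite) (h2 : (p ⁻¹' {g x}).Finite) :
    ∏ w ∈ h1.toFinset, φ w.1.2 = ∏ e ∈ h2.toFinset, φ e := by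
  refine Finset.prod_bij (fun w _ => w.1.2) ?_ ?_ ?_ ?_
  · intro w hw
    rw [Set.Finite.mem_toFinset] at hw ⊢
    have h1 : (w.1.1 : X) = x := hw
    have h2 := w.2
    rw [h1] at h2
    exact h2
  · intro w _ w' _ h
    exact eq_of_snd hg h
  · intro e he
    rw [Set.Finite.mem_toFinset] at he
    exact ⟨⟨(⟨x, hx⟩, e), he⟩, by rw [Set.Finite.mem_toFinset]; rfl, rfl⟩
  · intro w _
    rfl

omit [TopologicalSpace E] [TopologicalSpace X] [TopologicalSpace Y] in
theorem card_fibre (hg : Function.Injective g) (x : X) (hx : x ∈ t)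
    (h1 : ((pr p t g) ⁻¹' {x}).Finite) (h2 : (p ⁻¹' {g x}).Finite) :
    h1.toFinset.card = h2.toFinset.card := by
  refine Finset.card_bij (fun w _ => w.1.2) ?_ ?_ ?_
  · intro w hw
    rw [Set.Finite.mem_toFinset] at hw ⊢
    have h1 : (w.1.1 : X) = x := hw
    have h2 := w.2
    rw [h1] at h2
    exact h2
  · intro w _ w' _ h
    exact eq_of_snd hg h
  · intro e he
    rw [Set.Finite.mem_toFinset] at he
    exact ⟨⟨(⟨x, hx⟩, e), he⟩, by rw [Set.Finite.mem_toFinset]; rfl, rfl⟩

open Classical in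
/-- extension by zero of a function on the fibre product (for `g` injective) to `E` -/
noncomputable def ext (F : PB p t g → ℂ) (e : E) : ℂ :=
  if h : ∃ w : PB p t g, w.1.2 = e then F h.choose else 0

omit [TopologicalSpace E] [TopologicalSpace X] [TopologicalSpace Y] in
theorem ext_apply (hg : Function.Injective g) (F : PB p t g → ℂ) (w : PB p t g) :
    ext F w.1.2 = F w := by
  have h : ∃ w' : PB p t g, w'.1.2 = w.1.2 := ⟨w, rfl⟩
  rw [ext, dif_pos h, eq_of_snd hg h.choose_spec]

theorem continuousOn_ext (hp : Continuous p) (hg : Function.Injective g) {r : Y → X} (hr : Continuous r)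
    (hrg : ∀ x, r (g x) = x) (F : PB p t g → ℂ) (u : Set X)
    (hF : ContinuousOn F {w | (w.1.1 : X) ∈ u}) (A : Set E)
    (hA : ∀ e ∈ A, ∃ x ∈ t, x ∈ u ∧ g x = p e) : ContinuousOn (ext F) A := by
  have hmem : ∀ e : A, r (p e) ∈ t ∧ p e = g (r (p e)) ∧ r (p e) ∈ u := by
    intro e
    obtain ⟨x, hx, hxu, hgx⟩ := hA e e.2
    rw [← hgx, hrg]
    exact ⟨hx, rfl, hxu⟩
  rw [continuousOn_iff_continuous_domRestrict]
  let σ : A → PB p t g := fun e => ⟨(⟨r (p e), (hmem e).1⟩, e), (hmem e).2.1⟩
  have hσ : Continuous σ := by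
    refine Continuous.subtype_mk ?_ _
    exact ((hr.comp (hp.comp continuous_subtype_val)).subtype_mk _).prodMk continuous_subtype_val
  have h1 : A.domRestrict (ext F) = F ∘ σ := funext fun e => ext_apply hg F (σ e)
  rw [h1]
  exact hF.comp_continuous hσ (fun e => (hmem e).2.2)

end Groth.Agent.An.H520.SlicePB
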