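import Mathlib.RingTheory.Polynomial.Resultant.Basic
import Mathlib.FieldTheory.Separable
import Mathlib.Algebra.MvPolynomial.Eval
import Mathlib.Analysis.Complex.Basic

/-!
`S4207 FAM: SYM2`: separability of the characteristic polynomials outside a hypersurface, once it holds
at one point.
-/

set_option autoImplicit false
open MvPolynomial Topology

namespace Groth.Agent.An.H520.Sym2

/-- If a monic polynomial over `ℂ[x_1,…,x_n]` specialises at one point `x₀` with `D(x₀) ≠ 0` to a separable
polynomial, then there is a non-zero multiple `q'` of `D` outside of whose zero set all the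
specialisations are separable. -/
theorem separable_core {n : ℕ} (D : MvPolynomial (Fin n) ℂ) (hD : D ≠ 0)
    (f : Polynomial (MvPolynomial (Fin n) ℂ)) (hf : f.Monic) (x₀ : Fin n → ℂ)
    (hs : (f.map (eval x₀)).Separable) :
    ∃ q' : MvPolynomial (Fin n) ℂ, q' ≠ 0 ∧ D ∣ q' ∧
      ∀ x, eval x q' ≠ 0 → eval x D ≠ 0 ∧ (f.map (eval x)).Separable := by
  classical
  set r : MvPolynomial (Fin n) ℂ := Polynomial.resultant f f.derivative f.natDegree f.natDegree with hr
  have key : ∀ x : Fin n → ℂ, (f.map (eval x)).Separable ↔ eval x r ≠ 0 := by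
    intro x
    have hm : (f.map (eval x)).Monic := hf.map _
    have hd : (f.map (eval x)).natDegree = f.natDegree := hf.natDegree_map _
    have h1 : eval x r = Polynomial.resultant (f.map (eval x)) (f.map (eval x)).derivative
        f.natDegree f.natDegree := by
      rw [hr, ← Polynomial.resultant_map_map, Polynomial.derivative_map]
    have hle : (f.map (eval x)).derivative.natDegree ≤ f.natDegree := by
      have := Polynomial.natDegree_derivative_le (f.map (eval x))
      omega
    obtain ⟨k, hk⟩ := Nat.exists_eq_add_of_le hle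
    have h2 : eval x r = Polynomial.resultant (f.map (eval x)) (f.map (eval x)).derivative := by
      have h3 := Polynomial.resultant_add_right_deg (f.map (eval x)) (f.map (eval x)).derivative
        f.natDegree _ k le_rfl
      rw [h1]
      conv_lhs => rw [show Polynomial.resultant (f.map (eval x)) (f.map (eval x)).derivative
        f.natDegree f.natDegree = Polynomial.resultant (f.map (eval x)) (f.map (eval x)).derivative
        f.natDegree ((f.map (eval x)).derivative.natDegree + k) by rw [← hk]]
      rw [h3, hd, ← hd, Polynomial.coeff_natDegree, hm.leadingCoeff, one_pow, one_mul]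
    rw [h2, ← isUnit_iff_ne_zero, Polynomial.isUnit_resultant_iff_isCoprime hm]
    rfl
  have hr0 : r ≠ 0 := by
    intro h
    exact (key x₀).1 hs (by rw [h, map_zero])
  refine ⟨D * r, mul_ne_zero hD hr0, Dvd.intro _ rfl, fun x hx => ?_⟩
  rw [map_mul] at hx
  exact ⟨left_ne_zero_of_mul hx, (key x).2 (right_ne_zero_of_mul hx)⟩

/-- `SYM2` from the conclusion of `SYM`: if `F` is injective on one fibre over a point of `{D ≠ 0}`, then
the characteristic polynomial is separable outside of a hypersurface containing `{D = 0}`. -/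
theorem exists_charpoly_separable_of {E : Type} {n : ℕ}
    (D : MvPolynomial (Fin n) ℂ) (hD : D ≠ 0) (p : E → (Fin n → ℂ))
    (hfin : ∀ x, (p ⁻¹' {x}).Finite) (m : ℕ) (F : E → ℂ)
    (hsym : ∃ (f : Polynomial (MvPolynomial (Fin n) ℂ)) (k : ℕ), f.Monic ∧ f.natDegree = m ∧
      ∀ x, eval x D ≠ 0 → f.map (eval x) =
        ∏ e ∈ (hfin x).toFinset, (Polynomial.X - Polynomial.C (eval x D ^ k * F e)))
    (x₀ : Fin n → ℂ) (hx₀ : eval x₀ D ≠ 0) (hinj : Set.InjOn F (p ⁻¹' {x₀})) :
    ∃ (q' : MvPolynomial (Fin n) ℂ) (f : Polynomial (MvPolynomial (Fin n) ℂ)) (k : ℕ),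
      q' ≠ 0 ∧ D ∣ q' ∧ f.Monic ∧ f.natDegree = m ∧
      ∀ x, eval x q' ≠ 0 → (f.map (eval x)).Separable ∧ f.map (eval x) =
        ∏ e ∈ (hfin x).toFinset, (Polynomial.X - Polynomial.C (eval x D ^ k * F e)) := by
  classical
  obtain ⟨f, k, hf, hfm, hfx⟩ := hsym
  have hs : (f.map (eval x₀)).Separable := by
    rw [hfx x₀ hx₀]
    refine Polynomial.separable_prod_X_sub_C_iff'.2 ?_
    intro a ha b hb hab
    have h1 := mul_left_cancel₀ (pow_ne_zero k hx₀) hab
    exact hinj ((hfin x₀).mem_toFinset.1 ha) ((hfin x₀).mem_toFinset.1 hb) h1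
  obtain ⟨q', hq0, hq, hqx⟩ := separable_core D hD f hf x₀ hs
  exact ⟨q', f, k, hq0, hq, hf, hfm, fun x hx => ⟨(hqx x hx).2, hfx x (hqx x hx).1⟩⟩

end Groth.Agent.An.H520.Sym2
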